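import Groth.Agent.ProjMor.Sym
import Groth.Agent.P1Fib.LinForms
import Groth.Agent.KrullSch.PeriodEmbed
import Groth.Agent.CurveOmega.General
import Groth.Agent.CurveRR.Deg
import Groth.Agent.ExtFund.CanonRows
import Groth.Agent.AVOmega.Push
import Groth.Agent.QC.PullSect
import Groth.Agent.ResDesc.ResProp

/-!
Morphisms to projective space given by complete linear systems differ by automorphisms of it.
-/

set_option autoImplicit false
set_option backward.isDefEq.respectTransparency false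
set_option backward.isDefEq.respectTransparency.types false
set_option linter.style.haveILetI false
set_option maxHeartbeats 1000000
set_option synthInstance.maxHeartbeats 400000

universe u

open CategoryTheory CategoryTheory.Limits AlgebraicGeometry TopologicalSpace Opposite
open Groth.Agent.QC (res resO res_res res_smul resO_resO app_res)

noncomputable section

namespace Groth.Agent.CanonProj

variable {k : Type u} [Field k] {m n : ℕ}

/-- Global sections pulled back. -/
abbrev ps {X Y : Scheme.{u}} (f : X ⟶ Y) (M : Y.Modules) (s : Γ(M, ⊤)) :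
    Γ((Scheme.Modules.pullback f).obj M, ⊤) :=
  OmegaSh.pullSect f M ⊤ s

/-- A linear combination of global sections with constant coefficients. -/
def comb {X : Scheme.{u}} (q : X ⟶ Spec (CommRingCat.of k)) {L : X.Modules} (s : Fin m → Γ(L, ⊤))
    (c : Fin m → k) : Γ(L, ⊤) :=
  ∑ i, (show Γ(X, ⊤) from ProjUP.toGlobal q (c i)) • s i

theorem toGlobal_comp {X Y : Scheme.{u}} (f : X ⟶ Y) (q : Y ⟶ Spec (CommRingCat.of k)) (a : k) :
    (f.app ⊤).hom (ProjUP.toGlobal q a) = ProjUP.toGlobal (f ≫ q) a := by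
  simp only [ProjUP.toGlobal, RingHom.comp_apply, Scheme.Hom.comp_appTop, CommRingCat.hom_comp]
  rfl

theorem ps_comb {X Y : Scheme.{u}} (f : X ⟶ Y) (q : Y ⟶ Spec (CommRingCat.of k)) {L : Y.Modules}
    (s : Fin m → Γ(L, ⊤)) (c : Fin m → k) :
    ps f L (comb q s c) = comb (f ≫ q) (fun i => ps f L (s i)) c := by
  refine (map_sum _ _ _).trans (Finset.sum_congr rfl fun i _ => ?_)
  refine (OmegaSh.pullSect_smul f L ⊤ _ _).trans ?_
  exact congrArg (fun z : Γ(X, ⊤) => z • ps f L (s i)) (toGlobal_comp f q (c i))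

theorem app_comb {X : Scheme.{u}} (q : X ⟶ Spec (CommRingCat.of k)) {L L' : X.Modules} (φ : L ⟶ L')
    (s : Fin m → Γ(L, ⊤)) (c : Fin m → k) :
    φ.app ⊤ (comb q s c) = comb q (fun i => φ.app ⊤ (s i)) c :=
  (map_sum _ _ _).trans (Finset.sum_congr rfl fun i _ => Scheme.Modules.Hom.app_smul _ _ _)

theorem comb_comb {X : Scheme.{u}} (q : X ⟶ Spec (CommRingCat.of k)) {L : X.Modules} (s : Fin m → Γ(L, ⊤))
    (c : Fin n → Fin m → k) (d : Fin n → k) :
    comb q (fun j => comb q s (c j)) d = comb q s fun l => ∑ j, d j * c j l := by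
  simp only [comb, Finset.smul_sum, smul_smul, map_sum, Finset.sum_smul, map_mul]
  rw [Finset.sum_comm]

theorem comb_single {X : Scheme.{u}} (q : X ⟶ Spec (CommRingCat.of k)) {L : X.Modules} (s : Fin m → Γ(L, ⊤))
    (i : Fin m) : comb q s (Pi.single i 1) = s i := by
  classical
  rw [comb, Finset.sum_eq_single i]
  · rw [Pi.single_eq_same, map_one, one_smul]
  · intro j _ hj
    rw [Pi.single_eq_of_ne hj, map_zero, zero_smul]
  · exact fun h => absurd (Finset.mem_univ i) h

attribute [local instance] CurveRR.secMod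

/-- An injective combination map onto sections of the same dimension is bijective. -/
theorem bijective_comb {X : Scheme.{u}} [X.Over (Spec (CommRingCat.of k))] [IsProper (X ↘ Spec (CommRingCat.of k))]
    {L : X.Modules} (hm : 0 < m) (s : Fin m → Γ(L, ⊤))
    (hinj : Function.Injective (comb (X ↘ Spec (CommRingCat.of k)) s))
    (hh : CurveRR.h k L 0 = m) : Function.Bijective (comb (X ↘ Spec (CommRingCat.of k)) s) := by
  have hfr : Module.finrank k Γ(L, ⊤) = m := (CurveRR.finrank_sec L).trans hh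
  haveI : Module.Finite k Γ(L, ⊤) := Module.finite_of_finrank_pos (by omega)
  let f : (Fin m → k) →ₗ[k] Γ(L, ⊤) :=
    { toFun := comb (X ↘ Spec (CommRingCat.of k)) s
      map_add' := fun a b => by simp only [comb, Pi.add_apply, map_add, add_smul, Finset.sum_add_distrib]
      map_smul' := fun a c => by
        simp only [comb, Pi.smul_apply, smul_eq_mul, map_mul, RingHom.id_apply]
        rw [CurveRR.smul_def, Finset.smul_sum]
        refine Finset.sum_congr rfl fun i _ => ?_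
        rw [smul_smul]
        refine congrArg (fun z : Γ(X, ⊤) => (z * _) • s i) ?_
        exact (QC.resO_self le_top _).symm }
  exact ⟨hinj, (LinearMap.injective_iff_surjective_of_finrank_eq_finrank (f := f)
    (by rw [hfr, Module.finrank_fin_fun])).1 hinj⟩

/-- Pulling back along equal morphisms to the identity. -/
theorem exists_unit_iso (M : (CohB1.ProjSpace n k).Modules) (hM : FlatMod.IsFinLocFree M) :
    ∃ e : M ≅ (Scheme.Modules.pullback (𝟙 (CohB1.ProjSpace n k))).obj M, ∀ s, e.hom.app ⊤ s = ps (𝟙 _) M s := by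
  haveI := AVOmega.isIso_unit_of_finLocFree (𝟙 (CohB1.ProjSpace n k)) (fun W => inferInstance) hM
  exact ⟨asIso ((Scheme.Modules.pullbackPushforwardAdjunction (𝟙 _)).unit.app M) ≪≫
    (Scheme.Modules.pushforwardId _).app _, fun s => rfl⟩

theorem finLocFree_twist : FlatMod.IsFinLocFree (Twist.twistProjSpace n k 1) :=
  ResDesc.isFinLocFree_of_isInvertible (CohFinite.isInvertible_twist n k 1)

/-- The linear combination of the coordinates. -/
abbrev lin (c : Fin (n + 1) → k) : Γ(Twist.twistProjSpace n k 1, ⊤) :=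
  comb (CohB1.ProjSpace.toSpec n k) (L := Twist.twistProjSpace n k 1) (ProjUP.coord n k) c

theorem bijective_lin : Function.Bijective (lin (k := k) (n := n)) := P1Fib.bijective_coord n k

theorem exists_morph (c d : Fin (n + 1) → Fin (n + 1) → k)
    (hdc : ∀ i l, ∑ j, d i j * c j l = (Pi.single i 1 : Fin (n + 1) → k) l) :
    ∃ (t : CohB1.ProjSpace n k ⟶ CohB1.ProjSpace n k)
      (θ : (Scheme.Modules.pullback t).obj (Twist.twistProjSpace n k 1) ≅ Twist.twistProjSpace n k 1),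
      t ≫ CohB1.ProjSpace.toSpec n k = CohB1.ProjSpace.toSpec n k ∧
        ∀ i, θ.hom.app ⊤ (ps t _ (ProjUP.coord n k i)) = lin (c i) := by
  have hgen : ProjUP.GeneratedBy (Twist.twistProjSpace n k 1) (fun i => lin (c i)) := by
    intro x
    refine eq_top_iff.2 (le_of_eq_of_le (KrullSch.generatedBy_coord n k x).symm (Submodule.span_le.2 ?_))
    rintro _ ⟨i, rfl⟩
    have hi : (ProjUP.coord n k i : Γ(Twist.twistProjSpace n k 1, ⊤)) =
        comb (CohB1.ProjSpace.toSpec n k) (fun j => lin (c j)) (d i) := by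
      rw [show (fun j => lin (c j)) = fun j => comb (CohB1.ProjSpace.toSpec n k)
        (L := Twist.twistProjSpace n k 1) (ProjUP.coord n k) (c j) from rfl, comb_comb, funext (hdc i)]
      exact (comb_single (L := Twist.twistProjSpace n k 1) _ _ i).symm
    show Groth.Agent.WeakAssLib.mgerm (Twist.twistProjSpace n k 1) (U := ⊤) (x := x) trivial (ProjUP.coord n k i) ∈ _
    rw [hi, comb, map_sum]
    refine Submodule.sum_mem _ fun j _ => ?_
    rw [Groth.Agent.WeakAssLib.mgerm_smul]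
    exact Submodule.smul_mem _ _ (Submodule.subset_span ⟨j, rfl⟩)
  obtain ⟨t, ht, θ, hθ⟩ := ProjMor.exists_projSpace (n := n) (R := k) (CohB1.ProjSpace.toSpec n k)
    (CohFinite.isInvertible_twist n k 1) _ hgen
  exact ⟨t, θ, ht, hθ⟩

/-- Invertible matrices give automorphisms of projective space. -/
theorem exists_aut (c d : Fin (n + 1) → Fin (n + 1) → k)
    (hdc : ∀ i l, ∑ j, d i j * c j l = (Pi.single i 1 : Fin (n + 1) → k) l)
    (hcd : ∀ i l, ∑ j, c i j * d j l = (Pi.single i 1 : Fin (n + 1) → k) l) :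
    ∃ (σ : CohB1.ProjSpace n k ≅ CohB1.ProjSpace n k)
      (θ : (Scheme.Modules.pullback σ.hom).obj (Twist.twistProjSpace n k 1) ≅ Twist.twistProjSpace n k 1),
      σ.hom ≫ CohB1.ProjSpace.toSpec n k = CohB1.ProjSpace.toSpec n k ∧
        ∀ i, θ.hom.app ⊤ (ps σ.hom _ (ProjUP.coord n k i)) = lin (c i) := by
  obtain ⟨t, θ, ht, hθ⟩ := exists_morph c d hdc
  obtain ⟨t', θ', ht', hθ'⟩ := exists_morph d c hcd
  obtain ⟨e, he⟩ := exists_unit_iso (Twist.twistProjSpace n k 1) (finLocFree_twist (k := k) (n := n))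
  have key : ∀ (a b : Fin (n + 1) → Fin (n + 1) → k) (ra rb : CohB1.ProjSpace n k ⟶ CohB1.ProjSpace n k)
      (φa : (Scheme.Modules.pullback ra).obj (Twist.twistProjSpace n k 1) ≅ Twist.twistProjSpace n k 1)
      (φb : (Scheme.Modules.pullback rb).obj (Twist.twistProjSpace n k 1) ≅ Twist.twistProjSpace n k 1),
      (∀ i, φa.hom.app ⊤ (ps ra _ (ProjUP.coord n k i)) = lin (a i)) →
      (∀ i, φb.hom.app ⊤ (ps rb _ (ProjUP.coord n k i)) = lin (b i)) →
      ra ≫ CohB1.ProjSpace.toSpec n k = CohB1.ProjSpace.toSpec n k →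
      rb ≫ CohB1.ProjSpace.toSpec n k = CohB1.ProjSpace.toSpec n k →
      (∀ i l, ∑ j, b i j * a j l = (Pi.single i 1 : Fin (n + 1) → k) l) → ra ≫ rb = 𝟙 _ := by
    intro a b ra rb φa φb ha hb hra hrb hba
    let O := Twist.twistProjSpace n k 1
    let ψ := ((Scheme.Modules.pullbackComp ra rb).app O).symm ≪≫ (Scheme.Modules.pullback ra).mapIso φb ≪≫
      φa ≪≫ e
    refine ProjMor.eq_of_iso_projSpace (ra ≫ rb) (𝟙 _) (by rw [Category.assoc, hrb, hra, Category.id_comp]) ψ
      fun i => ?_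
    show e.hom.app ⊤ (φa.hom.app ⊤ (((Scheme.Modules.pullback ra).map φb.hom).app ⊤
      (((Scheme.Modules.pullbackComp ra rb).inv.app O).app ⊤ (ps (ra ≫ rb) O (ProjUP.coord n k i))))) = _
    have h1 : ((Scheme.Modules.pullbackComp ra rb).inv.app O).app ⊤ (ps (ra ≫ rb) O (ProjUP.coord n k i)) =
        ps ra _ (ps rb O (ProjUP.coord n k i)) := by
      rw [show ps (ra ≫ rb) O (ProjUP.coord n k i) = ((Scheme.Modules.pullbackComp ra rb).hom.app O).app ⊤
        (ps ra _ (ps rb O (ProjUP.coord n k i))) from (QC.pullbackComp_hom_pullSect ra rb O ⊤ _).symm]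
      exact congr(($((Scheme.Modules.pullbackComp ra rb).hom_inv_id_app O)).app ⊤ _)
    rw [h1, show ((Scheme.Modules.pullback ra).map φb.hom).app ⊤ (ps ra _ (ps rb O (ProjUP.coord n k i))) =
      ps ra O (φb.hom.app ⊤ (ps rb O (ProjUP.coord n k i))) from QC.app_pullSect ra φb.hom ⊤ _, hb, ps_comb,
      app_comb, hra, funext ha]
    rw [show (fun i => lin (a i)) = fun i => comb (CohB1.ProjSpace.toSpec n k) (L := O) (ProjUP.coord n k) (a i)
      from rfl, comb_comb, funext (hba i), he]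
    exact congrArg (ps (𝟙 _) O) (comb_single (L := O) _ _ i)
  exact ⟨⟨t, t', key c d t t' θ θ' hθ hθ' ht ht' hdc, key d c t' t θ' θ hθ' hθ ht' ht hcd⟩, θ, ht, hθ⟩

variable {X : Scheme.{u}} [X.Over (Spec (CommRingCat.of k))] [IsProper (X ↘ Spec (CommRingCat.of k))]

/-- Two morphisms by complete linear systems of the same line bundle differ by an automorphism. -/
theorem exists_aut_of_linearSystems (r r' : X ⟶ CohB1.ProjSpace n k)
    (hr : r ≫ CohB1.ProjSpace.toSpec n k = X ↘ Spec (CommRingCat.of k))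
    (hr' : r' ≫ CohB1.ProjSpace.toSpec n k = X ↘ Spec (CommRingCat.of k)) {L : X.Modules}
    (e : (Scheme.Modules.pullback r).obj (Twist.twistProjSpace n k 1) ≅ L)
    (e' : (Scheme.Modules.pullback r').obj (Twist.twistProjSpace n k 1) ≅ L)
    (hh : CurveRR.h k L 0 = n + 1)
    (hr₁ : Function.Injective (ps r (Twist.twistProjSpace n k 1)))
    (hr₂ : Function.Injective (ps r' (Twist.twistProjSpace n k 1))) :
    ∃ σ : CohB1.ProjSpace n k ≅ CohB1.ProjSpace n k,
      σ.hom ≫ CohB1.ProjSpace.toSpec n k = CohB1.ProjSpace.toSpec n k ∧ r ≫ σ.hom = r' := by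
  let O := Twist.twistProjSpace n k 1
  let q := X ↘ Spec (CommRingCat.of k)
  have hbij : ∀ (f : X ⟶ CohB1.ProjSpace n k) (a : (Scheme.Modules.pullback f).obj O ≅ L),
      f ≫ CohB1.ProjSpace.toSpec n k = q → Function.Injective (ps f O) →
      Function.Bijective (comb q fun i => a.hom.app ⊤ (ps f O (ProjUP.coord n k i))) := by
    intro f a hf hfi
    refine bijective_comb (Nat.succ_pos n) _ ?_ hh
    intro c c' hcc
    have e1 : ∀ c : Fin (n + 1) → k, comb q (fun i => a.hom.app ⊤ (ps f O (ProjUP.coord n k i))) c =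
        a.hom.app ⊤ (ps f O (lin c)) := fun c => by rw [ps_comb, app_comb, hf]
    change comb q _ c = comb q _ c' at hcc
    rw [e1, e1] at hcc
    exact bijective_lin.1 (hfi ((ConcreteCategory.bijective_of_isIso (a.hom.app ⊤)).1 hcc))
  have h1 := hbij r e hr hr₁
  have h2 := hbij r' e' hr' hr₂
  choose c hc using fun i => h1.2 (e'.hom.app ⊤ (ps r' O (ProjUP.coord n k i)))
  choose d hd using fun i => h2.2 (e.hom.app ⊤ (ps r O (ProjUP.coord n k i)))
  have hdc : ∀ i l, ∑ j, d i j * c j l = (Pi.single i 1 : Fin (n + 1) → k) l := fun i l => by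
    refine congrFun (h1.1 (a₁ := fun l => ∑ j, d i j * c j l) ?_) l
    show comb q _ _ = comb q _ _
    rw [← comb_comb, funext hc, hd, comb_single]
  have hcd : ∀ i l, ∑ j, c i j * d j l = (Pi.single i 1 : Fin (n + 1) → k) l := fun i l => by
    refine congrFun (h2.1 (a₁ := fun l => ∑ j, c i j * d j l) ?_) l
    show comb q _ _ = comb q _ _
    rw [← comb_comb, funext hd, hc, comb_single]
  obtain ⟨σ, θ, hσ, hθ⟩ := exists_aut c d hdc hcd
  refine ⟨σ, hσ, ?_⟩
  let ψ := ((Scheme.Modules.pullbackComp r σ.hom).app O).symm ≪≫ (Scheme.Modules.pullback r).mapIso θ ≪≫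
    e ≪≫ e'.symm
  refine ProjMor.eq_of_iso_projSpace (r ≫ σ.hom) r' (by rw [Category.assoc, hσ, hr, hr']) ψ fun i => ?_
  show e'.inv.app ⊤ (e.hom.app ⊤ (((Scheme.Modules.pullback r).map θ.hom).app ⊤
    (((Scheme.Modules.pullbackComp r σ.hom).inv.app O).app ⊤ (ps (r ≫ σ.hom) O (ProjUP.coord n k i))))) = _
  have h0 : ((Scheme.Modules.pullbackComp r σ.hom).inv.app O).app ⊤ (ps (r ≫ σ.hom) O (ProjUP.coord n k i)) =
      ps r _ (ps σ.hom O (ProjUP.coord n k i)) := by
    rw [show ps (r ≫ σ.hom) O (ProjUP.coord n k i) = ((Scheme.Modules.pullbackComp r σ.hom).hom.app O).app ⊤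
      (ps r _ (ps σ.hom O (ProjUP.coord n k i))) from (QC.pullbackComp_hom_pullSect r σ.hom O ⊤ _).symm]
    exact congr(($((Scheme.Modules.pullbackComp r σ.hom).hom_inv_id_app O)).app ⊤ _)
  rw [h0, show ((Scheme.Modules.pullback r).map θ.hom).app ⊤ (ps r _ (ps σ.hom O (ProjUP.coord n k i))) =
    ps r O (θ.hom.app ⊤ (ps σ.hom O (ProjUP.coord n k i))) from QC.app_pullSect r θ.hom ⊤ _, hθ, ps_comb,
    app_comb, hr, hc]
  exact congr(($(e'.hom_inv_id)).app ⊤ (ps r' O (ProjUP.coord n k i)))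

/-- **Canonically embedded curves.** -/
theorem main [IsAlgClosed k] {g : ℕ} (hg : 3 ≤ g) (X₁ X₂ : Scheme.{u}) [X₁.Over (Spec (CommRingCat.of k))]
    [X₂.Over (Spec (CommRingCat.of k))] [AlgebraicGeometry.IsIntegral X₁]
    [IsProper (X₁ ↘ Spec (CommRingCat.of k))] [IsProper (X₂ ↘ Spec (CommRingCat.of k))]
    [Smooth (X₁ ↘ Spec (CommRingCat.of k))] (hd₁ : topologicalKrullDim X₁ = 1) (hg₁ : Curv2.genus k X₁ = g)
    (i₁ : X₁ ⟶ CohB1.ProjSpace (g - 1) k) (i₂ : X₂ ⟶ CohB1.ProjSpace (g - 1) k)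
    (hi₁ : i₁ ≫ CohB1.ProjSpace.toSpec (g - 1) k = X₁ ↘ Spec (CommRingCat.of k))
    (hi₂ : i₂ ≫ CohB1.ProjSpace.toSpec (g - 1) k = X₂ ↘ Spec (CommRingCat.of k))
    (e₁ : (Scheme.Modules.pullback i₁).obj (Twist.twistProjSpace (g - 1) k 1) ≅
      Omega.sheaf (X₁ ↘ Spec (CommRingCat.of k)))
    (e₂ : (Scheme.Modules.pullback i₂).obj (Twist.twistProjSpace (g - 1) k 1) ≅
      Omega.sheaf (X₂ ↘ Spec (CommRingCat.of k)))
    (hnd₁ : Function.Injective (ps i₁ (Twist.twistProjSpace (g - 1) k 1)))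
    (hnd₂ : Function.Injective (ps i₂ (Twist.twistProjSpace (g - 1) k 1))) :
    (∃ φ : X₁ ≅ X₂, φ.hom ≫ (X₂ ↘ Spec (CommRingCat.of k)) = X₁ ↘ Spec (CommRingCat.of k)) ↔
      ∃ (σ : CohB1.ProjSpace (g - 1) k ≅ CohB1.ProjSpace (g - 1) k) (ψ : X₁ ≅ X₂),
        σ.hom ≫ CohB1.ProjSpace.toSpec (g - 1) k = CohB1.ProjSpace.toSpec (g - 1) k ∧
          i₁ ≫ σ.hom = ψ.hom ≫ i₂ := by
  refine ⟨fun ⟨φ, hφ⟩ => ?_, fun ⟨σ, ψ, hσ, h⟩ => ⟨ψ, by
    rw [← hi₂, ← Category.assoc, ← h, Category.assoc, hσ, hi₁]⟩⟩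
  let O := Twist.twistProjSpace (g - 1) k 1
  obtain ⟨α⟩ := ExtFund.nonempty_omega_pullback (g := 𝟙 (Spec (CommRingCat.of k)))
    (f := X₂ ↘ Spec (CommRingCat.of k)) (f' := X₁ ↘ Spec (CommRingCat.of k)) (g' := φ.hom)
    (IsPullback.of_horiz_isIso ⟨by rw [hφ, Category.comp_id]⟩)
  let a : (Scheme.Modules.pullback (φ.hom ≫ i₂)).obj O ≅ Omega.sheaf (X₁ ↘ Spec (CommRingCat.of k)) :=
    ((Scheme.Modules.pullbackComp φ.hom i₂).app O).symm ≪≫ (Scheme.Modules.pullback φ.hom).mapIso e₂ ≪≫ α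
  have hinj : Function.Injective (ps (φ.hom ≫ i₂) O) := by
    intro s t hst
    rw [show ps (φ.hom ≫ i₂) O s = _ from (QC.pullbackComp_hom_pullSect φ.hom i₂ O ⊤ s).symm,
      show ps (φ.hom ≫ i₂) O t = _ from (QC.pullbackComp_hom_pullSect φ.hom i₂ O ⊤ t).symm] at hst
    have h3 := (ConcreteCategory.bijective_of_isIso
      (((Scheme.Modules.pullbackComp φ.hom i₂).hom.app O).app ⊤)).1 hst
    haveI := AVOmega.isIso_unit_of_finLocFree φ.hom (fun W => inferInstance)
      (ResDesc.isFinLocFree_of_isInvertible (PicLoc.isInvertible_pullback i₂ (CohFinite.isInvertible_twist (g - 1) k 1)))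
    exact hnd₂ ((ConcreteCategory.bijective_of_isIso
      (((Scheme.Modules.pullbackPushforwardAdjunction φ.hom).unit.app ((Scheme.Modules.pullback i₂).obj O)).app ⊤)).1 h3)
  have hh : CurveRR.h k (Omega.sheaf (X₁ ↘ Spec (CommRingCat.of k))) 0 = g - 1 + 1 := by
    rw [(CurveOmega.omega_facts' k X₁ hd₁ (CurveRR.h0_structure k X₁)).1, hg₁]
    omega
  obtain ⟨σ, hσ, h⟩ := exists_aut_of_linearSystems i₁ (φ.hom ≫ i₂) hi₁ (by rw [Category.assoc, hi₂, hφ]) e₁ a hh
    hnd₁ hinj
  exact ⟨σ, φ, hσ, h⟩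

end Groth.Agent.CanonProj
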